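import Mathlib

set_option autoImplicit false
set_option backward.isDefEq.respectTransparency.types false
set_option linter.style.haveILetI false
universe u
open CategoryTheory CategoryTheory.Limits AlgebraicGeometry Opposite TopologicalSpace

namespace Groth.Agent.Lib.Helper23.InfNhd

variable {X : Scheme.{u}}

/-- the `n`-th infinitesimal neighbourhood of a point. -/
noncomputable abbrev thickPt (x : X) (n : ℕ) :
    Spec (CommRingCat.of (X.presheaf.stalk x ⧸
      IsLocalRing.maximalIdeal (X.presheaf.stalk x) ^ (n + 1))) ⟶ X :=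
  Spec.map (CommRingCat.ofHom (Ideal.Quotient.mk
    (IsLocalRing.maximalIdeal (X.presheaf.stalk x) ^ (n + 1)))) ≫ X.fromSpecStalk x

/-- if the `n`-th infinitesimal neighbourhood of `x` factors through the closed subscheme of `I`,
the germs of sections of `I` lie in `m_x^(n+1)`. -/
theorem germ_mem_pow (I : X.IdealSheafData) (x : X) (n : ℕ)
    (q : Spec (CommRingCat.of (X.presheaf.stalk x ⧸
      IsLocalRing.maximalIdeal (X.presheaf.stalk x) ^ (n + 1))) ⟶ I.subscheme)
    (hq : q ≫ I.subschemeι = thickPt x n)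
    (W : X.affineOpens) (hxW : x ∈ W.1) (a : Γ(X, W.1)) (ha : a ∈ I.ideal W) :
    X.presheaf.germ W.1 x hxW a ∈ IsLocalRing.maximalIdeal (X.presheaf.stalk x) ^ (n + 1) := by
  have h1 : I ≤ (thickPt x n).ker := by
    rw [← hq]
    calc I = I.subschemeι.ker := (Scheme.IdealSheafData.ker_subschemeι I).symm
      _ ≤ (q ≫ I.subschemeι).ker := Scheme.Hom.le_ker_comp _ _
  have h2 : a ∈ RingHom.ker ((thickPt x n).app W.1).hom :=
    Scheme.Hom.ideal_ker_le (thickPt x n) W (h1 W ha)
  have h2' : (thickPt x n).app W.1 a = 0 := h2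
  have hpre0 : (X.fromSpecStalk x) ⁻¹ᵁ W.1 = ⊤ :=
    Scheme.preimage_eq_top_of_closedPoint_mem _ (by rw [Scheme.fromSpecStalk_closedPoint]; exact hxW)
  have hpre : (⊤ : (Spec (CommRingCat.of (X.presheaf.stalk x ⧸
      IsLocalRing.maximalIdeal (X.presheaf.stalk x) ^ (n + 1)))).Opens) ≤
      (thickPt x n) ⁻¹ᵁ W.1 := by
    intro z _
    have hz : Spec.map (CommRingCat.ofHom (Ideal.Quotient.mk
        (IsLocalRing.maximalIdeal (X.presheaf.stalk x) ^ (n + 1)))) z ∈
          (X.fromSpecStalk x) ⁻¹ᵁ W.1 := by rw [hpre0]; trivial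
    exact hz
  have h3 : (thickPt x n).appLE W.1 ⊤ hpre a = 0 := by
    rw [Scheme.Hom.appLE, CommRingCat.comp_apply, h2', map_zero]
  have h4 : (thickPt x n).appLE W.1 ⊤ hpre =
      (X.fromSpecStalk x).appLE W.1 ⊤ (by rw [hpre0]) ≫
        (Spec.map (CommRingCat.ofHom (Ideal.Quotient.mk
          (IsLocalRing.maximalIdeal (X.presheaf.stalk x) ^ (n + 1))))).appLE ⊤ ⊤ le_top := by
    rw [Scheme.Hom.appLE_comp_appLE]
  have h5 : (X.fromSpecStalk x).appLE W.1 ⊤ (by rw [hpre0]) =
      X.presheaf.germ W.1 x hxW ≫ (Scheme.ΓSpecIso (X.presheaf.stalk x)).inv := by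
    rw [Scheme.Hom.appLE, Scheme.fromSpecStalk_app hxW, Category.assoc, Category.assoc,
      ← Functor.map_comp]
    have : ((homOfLE le_top : (X.fromSpecStalk x) ⁻¹ᵁ W.1 ⟶ ⊤).op ≫
        (homOfLE (by rw [hpre0]) : (⊤ : (Spec (X.presheaf.stalk x)).Opens) ⟶
          (X.fromSpecStalk x) ⁻¹ᵁ W.1).op) = 𝟙 _ := rfl
    rw [this, CategoryTheory.Functor.map_id, Category.comp_id]
  have h6 : (Scheme.ΓSpecIso (X.presheaf.stalk x)).inv ≫
      (Spec.map (CommRingCat.ofHom (Ideal.Quotient.mk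
          (IsLocalRing.maximalIdeal (X.presheaf.stalk x) ^ (n + 1))))).appLE ⊤ ⊤ le_top =
      CommRingCat.ofHom (Ideal.Quotient.mk
          (IsLocalRing.maximalIdeal (X.presheaf.stalk x) ^ (n + 1))) ≫
        (Scheme.ΓSpecIso _).inv := by
    have := Scheme.ΓSpecIso_inv_naturality (CommRingCat.ofHom (Ideal.Quotient.mk
          (IsLocalRing.maximalIdeal (X.presheaf.stalk x) ^ (n + 1))))
    rw [this]
    congr 1
  rw [h4, h5, Category.assoc, h6] at h3
  have h7 : (Scheme.ΓSpecIso (CommRingCat.of (X.presheaf.stalk x ⧸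
      IsLocalRing.maximalIdeal (X.presheaf.stalk x) ^ (n + 1)))).inv
      (Ideal.Quotient.mk (IsLocalRing.maximalIdeal (X.presheaf.stalk x) ^ (n + 1))
        (X.presheaf.germ W.1 x hxW a)) = 0 := h3
  have hinj : Function.Injective (Scheme.ΓSpecIso (CommRingCat.of (X.presheaf.stalk x ⧸
      IsLocalRing.maximalIdeal (X.presheaf.stalk x) ^ (n + 1)))).inv :=
    (ConcreteCategory.bijective_of_isIso _).1
  have h8 := hinj (h7.trans (map_zero _).symm)
  exact Ideal.Quotient.eq_zero_iff_mem.mp h8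


end Groth.Agent.Lib.Helper23.InfNhd
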