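import Mathlib
import Groth.Agent.Lib.Helper23.InfNhd.Germ

set_option autoImplicit false
set_option backward.isDefEq.respectTransparency.types false
set_option linter.style.haveILetI false
universe u
open CategoryTheory CategoryTheory.Limits AlgebraicGeometry Opposite TopologicalSpace

namespace Groth.Agent.Lib.Helper23.InfNhd

variable {X S : Scheme.{u}}

theorem exists_lift_thickPt (p : X ⟶ S) (x : X) (I : X.IdealSheafData) (n : ℕ)
    (g : pullback p (Spec.map (CommRingCat.ofHom (Ideal.Quotient.mk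
        (IsLocalRing.maximalIdeal ↑(S.presheaf.stalk (p x)) ^ (n + 1)))) ≫ S.fromSpecStalk (p x)) ⟶
          I.subscheme)
    (hg : g ≫ I.subschemeι = pullback.fst p _) :
    ∃ q : Spec (CommRingCat.of (X.presheaf.stalk x ⧸
      IsLocalRing.maximalIdeal (X.presheaf.stalk x) ^ (n + 1))) ⟶ I.subscheme,
      q ≫ I.subschemeι = thickPt x n := by
  have hle : IsLocalRing.maximalIdeal ↑(S.presheaf.stalk (p x)) ^ (n + 1) ≤
      Ideal.comap (p.stalkMap x).hom (IsLocalRing.maximalIdeal (X.presheaf.stalk x) ^ (n + 1)) := by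
    rw [← Ideal.map_le_iff_le_comap, Ideal.map_pow]
    apply Ideal.pow_right_mono
    have hloc : IsLocalHom (p.stalkMap x).hom := inferInstance
    exact ((IsLocalRing.local_hom_TFAE (p.stalkMap x).hom).out 0 2).mp hloc
  let ψ : (S.presheaf.stalk (p x) ⧸ IsLocalRing.maximalIdeal ↑(S.presheaf.stalk (p x)) ^ (n + 1)) →+*
      (X.presheaf.stalk x ⧸ IsLocalRing.maximalIdeal (X.presheaf.stalk x) ^ (n + 1)) :=
    Ideal.quotientMap _ (p.stalkMap x).hom hle
  have compat : thickPt x n ≫ p = Spec.map (CommRingCat.ofHom ψ) ≫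
      Spec.map (CommRingCat.ofHom (Ideal.Quotient.mk
        (IsLocalRing.maximalIdeal ↑(S.presheaf.stalk (p x)) ^ (n + 1)))) ≫ S.fromSpecStalk (p x) := by
    rw [thickPt, Category.assoc, ← Scheme.SpecMap_stalkMap_fromSpecStalk, ← Category.assoc,
      ← Category.assoc, ← Spec.map_comp, ← Spec.map_comp]
    congr 2
  refine ⟨pullback.lift (thickPt x n) (Spec.map (CommRingCat.ofHom ψ)) compat ≫ g, ?_⟩
  rw [Category.assoc, hg, pullback.lift_fst]

end Groth.Agent.Lib.Helper23.InfNhd
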