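import Mathlib
import Groth.Agent.Lib.Helper23.InfNhd.Lift

set_option autoImplicit false
set_option backward.isDefEq.respectTransparency.types false
set_option linter.style.haveILetI false
universe u
open CategoryTheory CategoryTheory.Limits AlgebraicGeometry Opposite TopologicalSpace

namespace Groth.Agent.Lib.Helper23.InfNhd

variable {X : Scheme.{u}}

/-- Krull: if all infinitesimal neighbourhoods of `x` factor through `V(I)`, the stalk of `I` at `x`
vanishes. -/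
theorem germ_eq_zero [IsLocallyNoetherian X] (I : X.IdealSheafData) (x : X)
    (hq : ∀ n : ℕ, ∃ q : Spec (CommRingCat.of (X.presheaf.stalk x ⧸
      IsLocalRing.maximalIdeal (X.presheaf.stalk x) ^ (n + 1))) ⟶ I.subscheme,
      q ≫ I.subschemeι = thickPt x n)
    (W : X.affineOpens) (hxW : x ∈ W.1) (a : Γ(X, W.1)) (ha : a ∈ I.ideal W) :
    X.presheaf.germ W.1 x hxW a = 0 := by
  have h1 : ∀ n : ℕ, X.presheaf.germ W.1 x hxW a ∈
      IsLocalRing.maximalIdeal (X.presheaf.stalk x) ^ (n + 1) := fun n => by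
    obtain ⟨q, hq⟩ := hq n
    exact germ_mem_pow I x n q hq W hxW a ha
  have h2 : X.presheaf.germ W.1 x hxW a ∈
      ⨅ i : ℕ, IsLocalRing.maximalIdeal (X.presheaf.stalk x) ^ i := by
    rw [Ideal.mem_iInf]
    intro i
    exact Ideal.pow_le_pow_right (Nat.le_succ i) (h1 i)
  rw [Ideal.iInf_pow_eq_bot_of_isLocalRing _
    (IsLocalRing.maximalIdeal.isMaximal _).ne_top] at h2
  exact h2

/-- an ideal sheaf on a locally Noetherian scheme with vanishing stalk at `x` vanishes near `x`. -/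
theorem exists_affine_ideal_eq_bot [IsLocallyNoetherian X] (I : X.IdealSheafData) (x : X)
    (hgerm : ∀ (W : X.affineOpens) (hxW : x ∈ W.1) (a : Γ(X, W.1)), a ∈ I.ideal W →
      X.presheaf.germ W.1 x hxW a = 0) :
    ∃ D : X.affineOpens, x ∈ D.1 ∧ I.ideal D = ⊥ := by
  obtain ⟨W0, hW0, hxW0, -⟩ := exists_isAffineOpen_mem_and_subset (X := X) (x := x) (U := ⊤) trivial
  let W : X.affineOpens := ⟨W0, hW0⟩
  haveI : IsNoetherianRing Γ(X, W.1) := IsLocallyNoetherian.component_noetherian W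
  obtain ⟨s, hs⟩ := (isNoetherianRing_iff_ideal_fg _).mp inferInstance (I.ideal W)
  have hloc : ∀ a : Γ(X, W.1), ∃ N : X.Opens, x ∈ N ∧ (a ∈ I.ideal W →
      ∀ (D : X.Opens) (_ : D ≤ N) (h2 : D ≤ W.1), X.presheaf.map (homOfLE h2).op a = 0) := by
    intro a
    by_cases ha : a ∈ I.ideal W
    · have h0 : X.presheaf.germ W.1 x hxW0 a = X.presheaf.germ W.1 x hxW0 0 := by
        rw [hgerm W hxW0 a ha, map_zero]
      obtain ⟨N, hxN, iU, iV, hN⟩ := TopCat.Presheaf.germ_eq X.presheaf x hxW0 hxW0 a 0 h0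
      refine ⟨N, hxN, fun _ D h1 h2 => ?_⟩
      have e1 : X.presheaf.map (homOfLE h2).op a =
          X.presheaf.map (homOfLE h1).op (X.presheaf.map iU.op a) := by
        rw [← CommRingCat.comp_apply, ← Functor.map_comp]; rfl
      rw [e1, hN, map_zero, map_zero]
    · exact ⟨⊤, trivial, fun h => absurd h ha⟩
  choose N hxN hN using hloc
  have hxinf : x ∈ s.inf N ⊓ W.1 := by
    refine ⟨?_, hxW0⟩
    exact Finset.inf_induction (p := fun U : X.Opens => x ∈ U) trivial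
      (fun U₁ h₁ U₂ h₂ => ⟨h₁, h₂⟩) (fun a _ => hxN a)
  obtain ⟨D0, hD0, hxD0, hD0sub⟩ := exists_isAffineOpen_mem_and_subset hxinf
  let D : X.affineOpens := ⟨D0, hD0⟩
  have hDW : D ≤ W := fun y hy => (hD0sub hy).2
  refine ⟨D, hxD0, ?_⟩
  rw [← I.map_ideal hDW, ← hs, Ideal.map_span, Ideal.span_eq_bot]
  rintro _ ⟨a, ha, rfl⟩
  have haI : a ∈ I.ideal W := by rw [← hs]; exact Ideal.subset_span ha
  exact hN a haI D0 (fun y hy => (Finset.inf_le (f := N) ha) ((hD0sub hy).1)) hDW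

/-- **the open locus where an ideal sheaf vanishes**, with the factorisation through the closed
subscheme. -/
theorem exists_opens_factor (I : X.IdealSheafData) (Z : Set X)
    (hZ : ∀ x ∈ Z, ∃ D : X.affineOpens, x ∈ D.1 ∧ I.ideal D = ⊥) :
    ∃ U : X.Opens, (∀ x ∈ Z, x ∈ U) ∧
      ∃ g : (U : Scheme.{u}) ⟶ I.subscheme, g ≫ I.subschemeι = U.ι := by
  let U : X.Opens := ⟨{x | ∃ D : X.affineOpens, x ∈ D.1 ∧ I.ideal D = ⊥}, by
    rw [isOpen_iff_forall_mem_open]
    rintro x ⟨D, hxD, hD⟩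
    exact ⟨D.1, fun y hy => ⟨D, hy, hD⟩, D.1.2, hxD⟩⟩
  refine ⟨U, hZ, ?_⟩
  have H : I.subschemeι.ker ≤ U.ι.ker := by
    rw [Scheme.IdealSheafData.ker_subschemeι]
    refine Scheme.IdealSheafData.le_ofIdeals_iff.mpr ?_
    intro W a ha
    show U.ι.app W.1 a = 0
    rw [Scheme.Opens.ι_app]
    -- sheaf locality
    have hkey : ∀ y : (U.ι ''ᵁ U.ι ⁻¹ᵁ W.1 : X.Opens), ∃ D : X.Opens, y.1 ∈ D ∧
        ∃ (hle : D ≤ U.ι ''ᵁ U.ι ⁻¹ᵁ W.1), X.presheaf.map (homOfLE hle).op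
          (X.presheaf.map (homOfLE (x := U.ι ''ᵁ U.ι ⁻¹ᵁ W.1)
            (Set.image_preimage_subset _ _)).op a) = 0 := by
      rintro ⟨y, hy⟩
      have hyW : y ∈ W.1 := (Set.image_preimage_subset _ _) hy
      have hyU : y ∈ U := by
        obtain ⟨z, -, rfl⟩ := hy
        exact z.2
      obtain ⟨D, hyD, hD⟩ := hyU
      have hy' : y ∈ D.1 ⊓ (U.ι ''ᵁ U.ι ⁻¹ᵁ W.1) := ⟨hyD, hy⟩
      obtain ⟨E0, hE0, hyE0, hE0sub⟩ := exists_isAffineOpen_mem_and_subset hy'
      let E : X.affineOpens := ⟨E0, hE0⟩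
      have hED : E ≤ D := fun z hz => (hE0sub hz).1
      have hEW : E ≤ W := fun z hz => (Set.image_preimage_subset _ _) (hE0sub hz).2
      refine ⟨E0, hyE0, fun z hz => (hE0sub hz).2, ?_⟩
      have e1 : X.presheaf.map (homOfLE (fun z hz => (hE0sub hz).2 :
            E0 ≤ U.ι ''ᵁ U.ι ⁻¹ᵁ W.1)).op
          (X.presheaf.map (homOfLE (x := U.ι ''ᵁ U.ι ⁻¹ᵁ W.1)
            (Set.image_preimage_subset _ _)).op a) = X.presheaf.map (homOfLE hEW).op a := by
        rw [← CommRingCat.comp_apply, ← Functor.map_comp]; rfl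
      rw [e1]
      have e2 : X.presheaf.map (homOfLE hEW).op a ∈ I.ideal E := I.ideal_le_comap_ideal hEW ha
      rw [← I.map_ideal hED, hD, Ideal.map_bot] at e2
      exact e2
    choose D hyD hle hD using hkey
    refine TopCat.Sheaf.eq_of_locally_eq' (F := X.sheaf) D _ (fun y => homOfLE (hle y)) ?_ _ _ ?_
    · intro y hy
      exact Opens.mem_iSup.mpr ⟨⟨y, hy⟩, hyD ⟨y, hy⟩⟩
    · intro y
      exact (hD y).trans (map_zero (X.presheaf.map (homOfLE (hle y)).op).hom).symm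
  exact ⟨IsClosedImmersion.lift I.subschemeι U.ι H, IsClosedImmersion.lift_fac _ _ _⟩

end Groth.Agent.Lib.Helper23.InfNhd
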